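import Mathlib
import Cfsg.Prelude.Def_Sporadic

/-!
# Sporadic factors and isolated tori: arithmetic (helper998, for S3666)

The numbers `1 ± q^d + q^(2d)` against the orders of the sporadic groups.
-/

set_option autoImplicit false

namespace Cfsg.Agent.H998.SpExc

open Cfsg

universe u

/-- the orders of the sporadic groups -/
def ords : List ℕ := [7920, 95040, 443520, 10200960, 244823040, 175560, 604800, 50232960, 86775571046077562880,
  4157776806543360000, 42305421312000, 495766656000, 64561751654400, 4089470473293004800, 1255205709190661721292800,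
  44352000, 898128000, 4030387200, 145926144000, 448345497600, 460815505920, 273030912000000, 51765179004000000,
  90745943887872000, 4154781481226426191177580544000000, 808017424794512875886459904961710757005754368000000000]

theorem card_mem {X : Type u} [Group X] (h : Cfsg.IsSporadic X) : Nat.card X ∈ ords := by
  rcases h with h | h | h | h | h | h | h | h | h | h | h | h | h | h | h | h | h | h | h | h | h | h | h | h | h | h <;>
    rw [h.2] <;> decide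

/-- the value `1 + c x^d + x^(2d)` -/
def pf (c d x : ℕ) : ℕ := 1 + c * x ^ d + x ^ (2 * d)

theorem pf_mod (s c d q : ℕ) : pf c d q % s = pf c d (q % s) % s := by
  have h : q % s ≡ q [MOD s] := Nat.mod_modEq q s
  exact (((Nat.ModEq.refl 1).add ((Nat.ModEq.refl c).mul (h.pow d))).add (h.pow (2 * d))).symm

/-- `s ∤ 1 - q^d + q^(2d)` -/
theorem not_dvd_minus {s d q N : ℕ} (hs : 0 < s) (hN : (N : ℤ) = 1 - (q : ℤ) ^ d + (q : ℤ) ^ (2 * d))
    (hc : ∀ a < s, pf (s - 1) d a % s ≠ 0) : ¬ s ∣ N := by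
  intro h
  apply hc (q % s) (Nat.mod_lt _ hs)
  rw [← pf_mod]
  apply Nat.mod_eq_zero_of_dvd
  have h1 : (s : ℤ) ∣ 1 - (q : ℤ) ^ d + (q : ℤ) ^ (2 * d) := by rw [← hN]; exact Int.natCast_dvd_natCast.2 h
  have h2 : ((pf (s - 1) d q : ℕ) : ℤ) = (1 - (q : ℤ) ^ d + (q : ℤ) ^ (2 * d)) + s * (q : ℤ) ^ d := by
    unfold pf
    push_cast [Nat.cast_sub hs]
    ring
  have h3 : (s : ℤ) ∣ ((pf (s - 1) d q : ℕ) : ℤ) := by
    rw [h2]
    exact dvd_add h1 (dvd_mul_right _ _)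
  exact Int.natCast_dvd_natCast.1 h3

/-- `s ∤ 1 + q^d + q^(2d)` -/
theorem not_dvd_plus {s d q N : ℕ} (hs : 0 < s) (hN : (N : ℤ) = 1 + (q : ℤ) ^ d + (q : ℤ) ^ (2 * d))
    (hc : ∀ a < s, pf 1 d a % s ≠ 0) : ¬ s ∣ N := by
  intro h
  apply hc (q % s) (Nat.mod_lt _ hs)
  rw [← pf_mod]
  apply Nat.mod_eq_zero_of_dvd
  have h1 : N = pf 1 d q := by
    have h2 : (N : ℤ) = ((pf 1 d q : ℕ) : ℤ) := by
      rw [hN]
      unfold pf
      push_cast
      ring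
    exact_mod_cast h2
  rw [← h1]
  exact h

theorem coprime_prod {N : ℕ} {L : List ℕ} (hL : ∀ s ∈ L, s.Prime) (h : ∀ s ∈ L, ¬ s ∣ N) : N.Coprime L.prod := by
  induction L with
  | nil => rw [List.prod_nil]; exact Nat.coprime_one_right N
  | cons s L ih =>
    rw [List.prod_cons]
    refine Nat.Coprime.mul_right ?_ (ih (fun t ht => hL t (List.mem_cons_of_mem _ ht))
      fun t ht => h t (List.mem_cons_of_mem _ ht))
    exact ((Nat.Prime.coprime_iff_not_dvd (hL s (by simp))).2 (h s (by simp))).symm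

/-- removal of the primes of `L` -/
theorem dvd_of_dvd {N n M : ℕ} {L : List ℕ} (hL : ∀ s ∈ L, s.Prime) (h : ∀ s ∈ L, ¬ s ∣ N) (hN : N ∣ n)
    (hn : n ∣ L.prod ^ 64 * M) : N ∣ M :=
  ((coprime_prod hL h).pow_right 64).dvd_of_dvd_mul_left (hN.trans hn)

theorem primes_of {L : List ℕ}
    (h : (L.all fun q => decide (q ∈ [2, 3, 5, 7, 11, 13, 17, 19, 23, 29, 31, 37, 41, 43, 47, 59, 67, 71])) = true) :
    ∀ q ∈ L, Nat.Prime q := by
  intro q hq
  have h1 := List.all_eq_true.1 h q hq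
  simp only [List.mem_cons, List.not_mem_nil, or_false, decide_eq_true_eq] at h1
  rcases h1 with h | h | h | h | h | h | h | h | h | h | h | h | h | h | h | h | h | h <;> rw [h] <;> norm_num

/-! ### `1 - q^2 + q^4` -/

/-- the primes of sporadic orders which are not `1` modulo `12` -/
def L12 : List ℕ := [2, 3, 5, 7, 11, 17, 19, 23, 29, 31, 41, 43, 47, 59, 67, 71]

theorem ords12 : ∀ n ∈ ords, n ∣ L12.prod ^ 64 * 81289 := by decide +kernel

theorem chk12 : ∀ s ∈ L12, ∀ a < s, pf (s - 1) 2 a % s ≠ 0 := by decide +kernel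

/-- **`N = q⁴ - q² + 1` dividing a sporadic order: `q = 2`.** -/
theorem q_of_12 {q N n : ℕ} (hq : 2 ≤ q) (hN : (N : ℤ) = 1 - (q : ℤ) ^ 2 + (q : ℤ) ^ 4) (hn : n ∈ ords) (h : N ∣ n) :
    q = 2 := by
  have h1 : N ∣ 81289 := dvd_of_dvd (primes_of (by decide)) (fun s hs => not_dvd_minus
    ((primes_of (L := L12) (by decide) s hs).pos) hN (chk12 s hs)) h (ords12 n hn)
  have h2 := Nat.le_of_dvd (by norm_num) h1
  have h3 : (N : ℤ) ≤ 81289 := by exact_mod_cast h2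
  have h4 : q ≤ 16 := by
    by_contra hcon
    have h5 : (17 : ℤ) ≤ q := by exact_mod_cast (by omega : 17 ≤ q)
    have h6 : (289 : ℤ) ≤ (q : ℤ) ^ 2 := by nlinarith
    have h7 : (q : ℤ) ^ 4 = (q : ℤ) ^ 2 * (q : ℤ) ^ 2 := by ring
    rw [hN, h7] at h3
    nlinarith
  have h5 : N + q ^ 2 = 1 + q ^ 4 := by
    have : (N : ℤ) + (q : ℤ) ^ 2 = 1 + (q : ℤ) ^ 4 := by rw [hN]; ring
    exact_mod_cast this
  have h6 : ∀ q ≤ 16, 2 ≤ q → (1 + q ^ 4 - q ^ 2) ∣ 81289 → q = 2 := by decide +kernel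
  refine h6 q h4 hq ?_
  have h7 : N = 1 + q ^ 4 - q ^ 2 := by omega
  rw [← h7]
  exact h1

/-! ### `1 - q^4 + q^8` -/

/-- the primes of sporadic orders -/
def L24 : List ℕ := [2, 3, 5, 7, 11, 13, 17, 19, 23, 29, 31, 37, 41, 43, 47, 59, 67, 71]

theorem ords24 : ∀ n ∈ ords, n ∣ L24.prod ^ 64 * 1 := by decide +kernel

theorem chk24 : ∀ s ∈ L24, ∀ a < s, pf (s - 1) 4 a % s ≠ 0 := by decide +kernel

theorem not_24 {q N n : ℕ} (hq : 2 ≤ q) (hN : (N : ℤ) = 1 - (q : ℤ) ^ 4 + (q : ℤ) ^ 8) (hn : n ∈ ords) (h : N ∣ n) :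
    False := by
  have h1 : N ∣ 1 := dvd_of_dvd (primes_of (by decide)) (fun s hs => not_dvd_minus
    ((primes_of (L := L24) (by decide) s hs).pos) hN (chk24 s hs)) h (ords24 n hn)
  have h2 : N = 1 := Nat.dvd_one.1 h1
  rw [h2] at hN
  have h3 : (2 : ℤ) ≤ q := by exact_mod_cast hq
  have h4 : (16 : ℤ) ≤ (q : ℤ) ^ 4 := by
    have : (4 : ℤ) ≤ (q : ℤ) ^ 2 := by nlinarith
    have e : (q : ℤ) ^ 4 = (q : ℤ) ^ 2 * (q : ℤ) ^ 2 := by ring
    nlinarith
  have e : (q : ℤ) ^ 8 = (q : ℤ) ^ 4 * (q : ℤ) ^ 4 := by ring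
  rw [e] at hN
  push_cast at hN
  nlinarith

/-! ### `1 ± q^3 + q^6` -/

/-- the primes of sporadic orders which are not `3` and not `1` modulo `9` -/
def L9 : List ℕ := [2, 5, 7, 11, 13, 17, 23, 29, 31, 41, 43, 47, 59, 67, 71]

theorem ords9 : ∀ n ∈ ords, n ∣ (3 :: L9).prod ^ 64 * 19 ∨ n ∣ (3 :: L9).prod ^ 64 * 37 := by decide +kernel

theorem chk9 : ∀ s ∈ L9, ∀ a < s, pf 1 3 a % s ≠ 0 := by decide +kernel

theorem chk18 : ∀ s ∈ L9, ∀ a < s, pf (s - 1) 3 a % s ≠ 0 := by decide +kernel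

/-- the `3'`-part of `N` divides a sporadic order -/
theorem mem_of_9 {N m n : ℕ} (hN : N = m ∨ N = 3 * m) (h9 : ¬ 9 ∣ N) (h3 : ¬ 3 ∣ m) (hL : ∀ s ∈ L9, ¬ s ∣ N) (hn : n ∈ ords)
    (h : m ∣ n) : N ∣ 57 ∨ N ∣ 111 := by
  have hmN : m ∣ N := by
    rcases hN with rfl | rfl
    · exact dvd_rfl
    · exact dvd_mul_left _ _
  have hL' : ∀ s ∈ 3 :: L9, ¬ s ∣ m := by
    intro s hs hd
    rcases List.mem_cons.1 hs with rfl | hs
    · exact h3 hd
    · exact hL s hs (hd.trans hmN)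
  have key : ∀ M, m ∣ M → N ∣ 3 * M := by
    intro M hM
    rcases hN with rfl | rfl
    · exact hM.trans (dvd_mul_left _ _)
    · exact Nat.mul_dvd_mul_left 3 hM
  rcases ords9 n hn with h1 | h1
  · exact Or.inl (key 19 (dvd_of_dvd (primes_of (by decide)) hL' h h1))
  · exact Or.inr (key 37 (dvd_of_dvd (primes_of (by decide)) hL' h h1))

theorem not_9 {q N m n : ℕ} (hq : 2 ≤ q) (hN : (N : ℤ) = 1 + (q : ℤ) ^ 3 + (q : ℤ) ^ 6) (hm : N = m ∨ N = 3 * m)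
    (h9 : ¬ 9 ∣ N) (h3 : ¬ 3 ∣ m) (hn : n ∈ ords) (h : m ∣ n) : False := by
  have hN' : N = 1 + q ^ 3 + q ^ 6 := by exact_mod_cast hN
  have h1 := mem_of_9 hm h9 h3 (fun s hs => not_dvd_plus ((primes_of (L := L9) (by decide) s hs).pos) hN (chk9 s hs)) hn h
  have h2 : N ≤ 111 := by
    rcases h1 with h1 | h1
    · exact (Nat.le_of_dvd (by norm_num) h1).trans (by norm_num)
    · exact Nat.le_of_dvd (by norm_num) h1
  have h3 : q = 2 := by
    by_contra hcon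
    have h4 : 3 ^ 6 ≤ q ^ 6 := Nat.pow_le_pow_left (by omega) 6
    omega
  subst h3
  rw [hN'] at h1
  revert h1
  decide

/-- **`N = q⁶ - q³ + 1`: `q = 2`.** -/
theorem q_of_18 {q N m n : ℕ} (hq : 2 ≤ q) (hN : (N : ℤ) = 1 - (q : ℤ) ^ 3 + (q : ℤ) ^ 6) (hm : N = m ∨ N = 3 * m)
    (h9 : ¬ 9 ∣ N) (h3 : ¬ 3 ∣ m) (hn : n ∈ ords) (h : m ∣ n) : q = 2 := by
  have hN' : N + q ^ 3 = 1 + q ^ 6 := by
    have : (N : ℤ) + (q : ℤ) ^ 3 = 1 + (q : ℤ) ^ 6 := by rw [hN]; ring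
    exact_mod_cast this
  have h1 := mem_of_9 hm h9 h3 (fun s hs => not_dvd_minus ((primes_of (L := L9) (by decide) s hs).pos) hN (chk18 s hs)) hn h
  have h2 : N ≤ 111 := by
    rcases h1 with h1 | h1
    · exact (Nat.le_of_dvd (by norm_num) h1).trans (by norm_num)
    · exact Nat.le_of_dvd (by norm_num) h1
  by_contra hcon
  have h4 : 3 ^ 3 ≤ q ^ 3 := Nat.pow_le_pow_left (by omega) 3
  have h5 : q ^ 6 = q ^ 3 * q ^ 3 := by ring
  have h6 : 27 * q ^ 3 ≤ q ^ 3 * q ^ 3 := Nat.mul_le_mul_right _ (by omega)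
  omega

/-! ### small groups -/

theorem five_dvd : ∀ n ∈ ords, 5 ∣ n := by decide

theorem three_dvd : ∀ n ∈ ords, 3 ∣ n := by decide

theorem seven_etc : ∀ n ∈ ords, 7 ∣ n ∨ 11 ∣ n ∨ 17 ∣ n := by decide

theorem f4_two : ∀ n ∈ ords, 13 ∣ n → 17 ∣ n → 11 ∣ n := by decide

theorem e6_two : ∀ n ∈ ords, 13 ∣ n → 19 ∣ n → 31 ∣ n := by decide

end Cfsg.Agent.H998.SpExc
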