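import Cfsg.Agent.H129.CycRow

/-!
# Isolated numbers (helper998, for S3666)

`Isol L m`: every prime power `r ^ k ∣ m`, `k > 0`, is an element order of `L`, `r` is odd and `2 r` is not an element
order.
-/

set_option autoImplicit false

namespace Cfsg.Agent.H998.SpExc

open Cfsg Cfsg.Agent.H129 Cfsg.Agent.H129.CycT

universe u v

/-- the prime powers dividing `m` are isolated element orders -/
def Isol (L : Type*) [Group L] (m : ℕ) : Prop :=
  ∀ r k : ℕ, r.Prime → 0 < k → r ^ k ∣ m →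
    r ≠ 2 ∧ r ∣ Nat.card L ∧ (¬ ∃ y : L, orderOf y = 2 * r) ∧ ∃ y : L, orderOf y = r ^ k

theorem Isol.congr {L : Type u} {L' : Type v} [Group L] [Group L'] (e : L ≃* L') {m : ℕ} (h : Isol L' m) : Isol L m := by
  intro r k hr hk hd
  obtain ⟨h1, h2, h3, y, hy⟩ := h r k hr hk hd
  refine ⟨h1, ?_, ?_, e.symm y, ?_⟩
  · rwa [Nat.card_congr e.toEquiv]
  · rintro ⟨z, hz⟩
    exact h3 ⟨e z, by rw [MulEquiv.orderOf_eq, hz]⟩
  · rw [MulEquiv.orderOf_eq, hy]

/-- `m` divides `|X|` -/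
theorem Isol.dvd {L : Type u} [Group L] {X : Type v} [Group X] {m : ℕ} (h : Isol L m)
    (hP : ∀ p k : ℕ, p.Prime → p ≠ 2 → p ∣ Nat.card L → (¬ ∃ y : L, orderOf y = 2 * p) → (∃ y : L, orderOf y = p ^ k) →
      p ^ k ∣ Nat.card X) : m ∣ Nat.card X := by
  rw [Nat.dvd_iff_prime_pow_dvd_dvd]
  intro r k hr hd
  rcases Nat.eq_zero_or_pos k with rfl | hk
  · rw [pow_zero]; exact one_dvd _
  obtain ⟨h1, h2, h3, h4⟩ := h r k hr hk hd
  exact hP r k hr h1 h2 h3 h4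

theorem Isol.two {L : Type u} [Group L] {m : ℕ} (h : Isol L m) (hm : m ≠ 1) :
    ∃ p : ℕ, p.Prime ∧ p ≠ 2 ∧ p ∣ Nat.card L ∧ ¬ ∃ y : L, orderOf y = 2 * p := by
  obtain ⟨r, hr, hd⟩ := Nat.exists_prime_and_dvd hm
  obtain ⟨h1, h2, h3, -⟩ := h r 1 hr one_pos (by rwa [pow_one])
  exact ⟨r, hr, h1, h2, h3⟩

/-- an element of order `r ^ k` in a cyclic subgroup -/
theorem exists_orderOf_of_cyclic {G : Type*} [Group G] [Finite G] {T : Subgroup G} (hc : IsCyclic ↥T) {n : ℕ}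
    (h : n ∣ Nat.card ↥T) : ∃ y : G, orderOf y = n := by
  obtain ⟨g, hg⟩ := hc.exists_generator
  have h1 : orderOf g = Nat.card ↥T := orderOf_eq_card_of_forall_mem_zpowers hg
  obtain ⟨c, hc⟩ := h
  have hpos : 0 < Nat.card ↥T := Nat.card_pos
  have hn : 0 < n := Nat.pos_of_ne_zero (by rintro rfl; rw [zero_mul] at hc; omega)
  have hcpos : c ≠ 0 := by rintro rfl; rw [mul_zero] at hc; omega
  refine ⟨(g : G) ^ c, ?_⟩
  have h2 : orderOf (g : G) = n * c := by rw [Subgroup.orderOf_coe, h1, hc]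
  rw [orderOf_pow' _ hcpos, h2, Nat.gcd_eq_right (dvd_mul_left c n), Nat.mul_div_cancel _ (Nat.pos_of_ne_zero hcpos)]

theorem isol_of_torus {G : Type*} [Group G] [Finite G] {T : Subgroup G} (hc : IsCyclic ↥T) (hodd : ¬ 2 ∣ Nat.card ↥T)
    {m : ℕ} (hd : ∀ r k : ℕ, r.Prime → 0 < k → r ^ k ∣ m → r ^ k ∣ Nat.card ↥T)
    (hcent : ∀ r : ℕ, r.Prime → r ∣ m → ∀ y ∈ T, orderOf y = r → Subgroup.centralizer {y} ≤ T) : Isol G m := by
  intro r k hr hk hrk
  have hrm : r ∣ m := (dvd_pow_self r hk.ne').trans hrk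
  have hrT : r ∣ Nat.card ↥T := (dvd_pow_self r hk.ne').trans (hd r k hr hk hrk)
  have hr2 : r ≠ 2 := by
    rintro rfl
    exact hodd hrT
  refine ⟨hr2, hrT.trans (Subgroup.card_subgroup_dvd_card T), ?_, exists_orderOf_of_cyclic hc (hd r k hr hk hrk)⟩
  rintro ⟨z, hz⟩
  have hx : orderOf (z ^ 2) = r := by
    rw [orderOf_pow' _ two_ne_zero, hz, Nat.gcd_eq_right (dvd_mul_right 2 r), Nat.mul_div_cancel_left _ two_pos]
  obtain ⟨g, -, hg⟩ := centralizer_conj hc hr hrT (hcent r hr hrm) hx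
  have h1 : g * z * g⁻¹ ∈ T := (hg z).1 (by
    rw [Subgroup.mem_centralizer_singleton_iff]
    exact (Commute.refl z).pow_right 2)
  have h2 : orderOf (g * z * g⁻¹) = 2 * r := by
    rw [← hz]
    exact orderOf_injective (MulAut.conj g).toMonoidHom (MulAut.conj g).injective z
  apply hodd
  have h3 := Subgroup.orderOf_dvd_natCard T h1
  rw [h2] at h3
  exact (dvd_mul_right 2 r).trans h3

theorem isol_of_exact {G : Type*} [Group G] [Finite G] {m : ℕ} (h : CycExact G m) (hodd : ¬ 2 ∣ m) : Isol G m := by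
  obtain ⟨T, h1, h2, h3⟩ := h
  refine isol_of_torus h1 (by rwa [h2]) (fun r k _ _ hd => by rwa [h2]) fun r hr _ y hy hyr => (h3 y hy ?_).le
  rintro rfl
  rw [orderOf_one] at hyr
  exact hr.one_lt.ne hyr

/-- odd centralisers of elements of order `r` -/
theorem not_two_of_cent {G : Type*} [Group G] [Finite G] {r M : ℕ} (hM : ¬ 2 ∣ M)
    (h : ∀ x : G, orderOf x = r → Nat.card ↥(Subgroup.centralizer ({x} : Set G)) ∣ M) : ¬ ∃ y : G, orderOf y = 2 * r := by
  rintro ⟨z, hz⟩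
  have hx : orderOf (z ^ 2) = r := by
    rw [orderOf_pow' _ two_ne_zero, hz, Nat.gcd_eq_right (dvd_mul_right 2 r), Nat.mul_div_cancel_left _ two_pos]
  have h1 : z ∈ Subgroup.centralizer ({z ^ 2} : Set G) := by
    rw [Subgroup.mem_centralizer_singleton_iff]
    exact (Commute.refl z).pow_right 2
  have h2 := Subgroup.orderOf_dvd_natCard _ h1
  rw [hz] at h2
  exact hM (((dvd_mul_right 2 r).trans h2).trans (h _ hx))

end Cfsg.Agent.H998.SpExc
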