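import Cfsg.Agent.H998.SpExc.Small

/-!
# S3666: no sporadic group has the component data of an exceptional group or the Tits group (helper998)
-/

set_option autoImplicit false

namespace Cfsg.Agent.H998.SpExc

open Cfsg

/-- the exceptional families and the Tits group, `E₇` and `G₂` excepted -/
abbrev IsExc (L : Type*) [Group L] : Prop :=
  Lie.IsoF4 L ∨ Lie.IsoChevE6 L ∨ Lie.IsoE8 L ∨ Lie.Iso2E6 L ∨ Lie.Iso3D4 L ∨ Lie.IsoSuzuki L ∨ Lie.IsoRee L ∨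
    Lie.Iso2F4 L ∨ Lie.IsoTits L

/-- **No sporadic group.** -/
theorem exc_false {L : Type*} [Group L] [Finite L]
    (hL : Lie.IsoF4 L ∨ Lie.IsoChevE6 L ∨ Lie.IsoE8 L ∨ Lie.Iso2E6 L ∨ Lie.Iso3D4 L ∨ Lie.IsoSuzuki L ∨ Lie.IsoRee L ∨
      Lie.Iso2F4 L ∨ Lie.IsoTits L)
    {X : Type*} [Group X] [Finite X] (hX : Cfsg.IsSporadic X)
    (hsub : ∀ x : X, ∃ y : L, orderOf y = orderOf x)
    (hP : ∀ p k : ℕ, p.Prime → p ≠ 2 → p ∣ Nat.card L → (¬ ∃ y : L, orderOf y = 2 * p) → (∃ y : L, orderOf y = p ^ k) →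
      p ^ k ∣ Nat.card X) : False := by
  have hs : Sub X L := hsub
  have hP' : Par X L := hP
  rcases hL with ⟨F, _, _, ⟨e⟩⟩ | ⟨F, _, _, ⟨e⟩⟩ | ⟨F, _, _, ⟨e⟩⟩ | ⟨F, _, _, q, hq, hK, ⟨e⟩⟩ | ⟨F, _, _, q, hq, hK, ⟨e⟩⟩ |
    ⟨F, _, _, m, hm, hK, ⟨e⟩⟩ | ⟨F, _, _, m, hm, hK, ⟨e⟩⟩ | ⟨F, _, _, m, hm, hK, ⟨e⟩⟩ | ⟨⟨e⟩⟩
  · exact F4_false hX (hs.trans_equiv e) (hP'.trans_equiv e)
  · exact E6_false hX (hP'.trans_equiv e)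
  · exact E8_false hX (hP'.trans_equiv e)
  · exact tE6_false hq hK hX (hs.trans_equiv e) (hP'.trans_equiv e)
  · exact tD4_false hq hK hX (hs.trans_equiv e) (hP'.trans_equiv e)
  · obtain ⟨e'⟩ := Cfsg.Agent.OddCyclic.ClaimC.SzIso.iso hm hK
    exact sz_false hm hK hX (hs.trans_equiv (e.trans e'.symm))
  · exact ree_false hK hX (hs.trans_equiv e)
  · exact f4t_false hm hK hX (hP'.trans_equiv e)
  · exact tits_false hX (hs.trans_equiv e)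

/-- **An odd prime not adjacent to `2`.** -/
theorem exc_two {L : Type*} [Group L]
    (hL : Lie.IsoF4 L ∨ Lie.IsoChevE6 L ∨ Lie.IsoE8 L ∨ Lie.Iso2E6 L ∨ Lie.Iso3D4 L ∨ Lie.IsoSuzuki L ∨ Lie.IsoRee L ∨
      Lie.Iso2F4 L ∨ Lie.IsoTits L) :
    ∃ p : ℕ, p.Prime ∧ p ≠ 2 ∧ p ∣ Nat.card L ∧ ¬ ∃ y : L, orderOf y = 2 * p := by
  suffices h : Two L from h
  rcases hL with ⟨F, _, _, ⟨e⟩⟩ | ⟨F, _, _, ⟨e⟩⟩ | ⟨F, _, _, ⟨e⟩⟩ | ⟨F, _, _, q, hq, hK, ⟨e⟩⟩ | ⟨F, _, _, q, hq, hK, ⟨e⟩⟩ |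
    ⟨F, _, _, m, hm, hK, ⟨e⟩⟩ | ⟨F, _, _, m, hm, hK, ⟨e⟩⟩ | ⟨F, _, _, m, hm, hK, ⟨e⟩⟩ | ⟨⟨e⟩⟩
  · exact Two.of_equiv (L' := ↥(Lie.chevF4.group F)) e F4_two
  · exact Two.of_equiv (L' := ↥(Lie.chevE6.group F)) e E6_two
  · exact Two.of_equiv (L' := ↥(Lie.chevE8.group F)) e E8_two
  · exact Two.of_equiv (L' := ↥(Lie.twistedE6 F q)) e (tE6_two hq hK)
  · exact Two.of_equiv (L' := ↥(Lie.twistedD4 F q)) e (tD4_two hq hK)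
  · obtain ⟨e'⟩ := Cfsg.Agent.OddCyclic.ClaimC.SzIso.iso hm hK
    exact Two.of_equiv (L' := ↥(Cfsg.Sz F m)) (e.trans e'.symm) (two_sz hm hK)
  · exact Two.of_equiv (L' := ↥(Lie.twistedG2 F (3 ^ m))) e (two_ree hm hK)
  · exact Two.of_equiv (L' := ↥(Lie.twistedF4 F (2 ^ m))) e (two_2F4 hK)
  · exact Two.of_equiv (L' := Lie.TitsGroup) e two_tits

end Cfsg.Agent.H998.SpExc
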