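import Cfsg.Agent.H998.SpExc.Untw
import Cfsg.Agent.H378.TwRowsF
import Cfsg.Agent.H371.Core.TwF4
import Cfsg.Agent.S2238
import Cfsg.Agent.S0324
import Cfsg.Agent.S1159
import Cfsg.Agent.S1069
import Cfsg.Agent.S1074
import Cfsg.Agent.OddCyclic.ClaimC.SzIso

/-!
# Sporadic factors: `Sz`, `²G₂`, `²F₄`, the Tits group (helper998, for S3666)
-/

set_option autoImplicit false

namespace Cfsg.Agent.H998.SpExc

open Cfsg Cfsg.Lie

universe u v

/-! ### Suzuki groups -/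

section Sz

variable {F : Type u} [Field F] [Fintype F] {m : ℕ}

theorem finite_sz : Finite ↥(Cfsg.Sz F m) := inferInstance

theorem two_sz (hm : 1 ≤ m) (hF : Fintype.card F = 2 ^ (2 * m + 1)) : Two ↥(Cfsg.Sz F m) := by
  have hcard := Cfsg.Agent.S0324.result hm hF
  have h4 : (2 : ZMod 5) ^ (2 * m + 1) * (2 : ZMod 5) ^ (2 * m + 1) + 1 = 0 := by
    rw [← mul_pow, pow_succ, pow_mul]
    have h1 : ((2 * 2 : ZMod 5)) ^ 2 = 1 := by decide
    rw [h1, one_pow]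
    decide
  have h5 : 5 ∣ (2 ^ (2 * m + 1)) ^ 2 + 1 := by
    rw [← ZMod.natCast_eq_zero_iff]
    push_cast
    rw [sq]
    exact h4
  have hodd : ∀ T : ℕ, T ∈ ({2 ^ (2 * m + 1) - 1, 2 ^ (2 * m + 1) + 2 ^ (m + 1) + 1, 2 ^ (2 * m + 1) - 2 ^ (m + 1) + 1} : Set ℕ) →
      ¬ 2 ∣ T := by
    have h1 : 2 ^ (2 * m + 1) = 2 * 2 ^ (2 * m) := by rw [pow_succ]; ring
    have h2 : 2 ^ (m + 1) = 2 * 2 ^ m := by rw [pow_succ]; ring
    have h3 : 2 ^ m ≤ 2 ^ (2 * m) := Nat.pow_le_pow_right two_pos (by omega)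
    have h4 : 0 < 2 ^ m := by positivity
    rintro T (rfl | rfl | rfl)
    · rw [h1]; omega
    · rw [h1, h2]; omega
    · rw [h1, h2]; omega
  refine ⟨5, by norm_num, by norm_num, ?_, ?_⟩
  · rw [hcard]
    exact (h5.mul_left _).mul_right _
  · rintro ⟨g, hg⟩
    obtain ⟨U, ⟨hU, hgU⟩, -⟩ := Cfsg.Agent.S2238.result hm hF g (by
      rintro rfl
      rw [orderOf_one] at hg
      norm_num at hg)
    rcases hU with ⟨P, rfl⟩ | ⟨-, hN⟩
    · obtain ⟨j, hj⟩ := P.isPGroup' ⟨g, hgU⟩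
      have h3 : g ^ 2 ^ j = 1 := congrArg Subtype.val hj
      have h4 : orderOf g ∣ 2 ^ j := orderOf_dvd_of_pow_eq_one h3
      rw [hg] at h4
      have h6 : 5 ∣ 2 ^ j := (dvd_mul_left 5 2).trans h4
      have h7 := (Nat.prime_dvd_prime_iff_eq (by norm_num) Nat.prime_two).1
        ((by norm_num : Nat.Prime 5).dvd_of_dvd_pow h6)
      omega
    · apply hodd _ hN
      have h6 := Subgroup.orderOf_dvd_natCard U hgU
      rw [hg] at h6
      exact (dvd_mul_right 2 5).trans h6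

theorem sz_false (hm : 1 ≤ m) (hF : Fintype.card F = 2 ^ (2 * m + 1)) {X : Type v} [Group X] [Finite X]
    (hX : Cfsg.IsSporadic X) (hs : Sub X ↥(Cfsg.Sz F m)) : False := by
  have h3 := hs.prime Nat.prime_three (three_dvd _ (card_mem hX))
  rw [Cfsg.Agent.S0324.result hm hF, ← ZMod.natCast_eq_zero_iff] at h3
  have h1 : ((2 : ZMod 3)) ^ (2 * m + 1) = 2 := by
    rw [pow_succ, pow_mul]
    have h1 : (2 : ZMod 3) ^ 2 = 1 := by decide
    rw [h1, one_pow, one_mul]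
  have h2 : 1 ≤ 2 ^ (2 * m + 1) := Nat.one_le_two_pow
  push_cast [Nat.cast_sub h2] at h3
  rw [h1] at h3
  revert h3
  decide

end Sz

/-! ### small Ree groups -/

section Ree

variable {K : Type u} [Field K] [Fintype K] {m : ℕ}

theorem two_ree (hm : 1 ≤ m) (hK : Fintype.card K = 3 ^ (2 * m + 1)) : Two ↥(twistedG2 K (3 ^ m)) := by
  have h1 := fun d => Cfsg.Agent.S1159.result hm hK d
  set q := 3 ^ (2 * m + 1) with hq
  set t := 3 ^ (m + 1) with ht
  have htq : t * t = 3 * q := by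
    rw [ht, hq, ← pow_add, ← pow_succ']
    congr 1
    omega
  have ht9 : 9 ≤ t := by
    calc 9 = 3 ^ 2 := by norm_num
      _ ≤ 3 ^ (m + 1) := Nat.pow_le_pow_right (by norm_num) (by omega)
  have ht3 : 3 ∣ t := dvd_pow_self 3 (by omega)
  have hq3 : 3 ∣ q := dvd_pow_self 3 (by omega)
  have hqt : 3 * t ≤ q := by nlinarith
  have ht2 : t % 2 = 1 := by
    rw [ht, Nat.pow_mod]
    norm_num
  have hq2 : q % 2 = 1 := by
    rw [hq, Nat.pow_mod]
    norm_num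
  obtain ⟨p, hp, hpd⟩ := Nat.exists_prime_and_dvd (n := q - t + 1) (by omega)
  have hp2 : p ≠ 2 := by
    rintro rfl
    omega
  have hp3 : p ≠ 3 := by
    rintro rfl
    omega
  obtain ⟨g, hg⟩ := (h1 (q - t + 1)).2 (Or.inr (Or.inr (Or.inr (Or.inr (Or.inl dvd_rfl)))))
  refine ⟨p, hp, hp2, ?_, ?_⟩
  · rw [← hg] at hpd
    exact hpd.trans (orderOf_dvd_natCard g)
  · intro hy
    -- `p ∣ q² - q + 1`
    have hz : (p : ℤ) ∣ (q : ℤ) - t + 1 := by
      have h2 : ((q - t + 1 : ℕ) : ℤ) = (q : ℤ) - t + 1 := by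
        rw [Nat.cast_add, Nat.cast_sub (by omega)]
        rfl
      rw [← h2]
      exact Int.natCast_dvd_natCast.2 hpd
    have hz2 : (p : ℤ) ∣ (q : ℤ) ^ 2 - q + 1 := by
      have h2 : ((q : ℤ) - t + 1) * ((q : ℤ) + t + 1) = (q : ℤ) ^ 2 - q + 1 := by
        have h3 : (t : ℤ) * t = 3 * q := by exact_mod_cast htq
        linear_combination -h3
      rw [← h2]
      exact hz.mul_right _
    rcases (h1 (2 * p)).1 hy with h | h | h | h | h | h
    · have h' : p ∣ 3 := Nat.dvd_of_mul_dvd_mul_left two_pos (by simpa using h)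
      exact hp3 ((Nat.prime_dvd_prime_iff_eq hp Nat.prime_three).1 h')
    · have h' : 2 ∣ 9 := (dvd_mul_right 2 p).trans h
      omega
    · have h' : p ∣ q - 1 := (dvd_mul_left p 2).trans h
      have h2 : (p : ℤ) ∣ (q : ℤ) - 1 := by
        have h3 : ((q - 1 : ℕ) : ℤ) = (q : ℤ) - 1 := by
          rw [Nat.cast_sub (by omega)]
          rfl
        rw [← h3]
        exact Int.natCast_dvd_natCast.2 h'
      have h4 : (p : ℤ) ∣ 1 := by
        have h5 : (1 : ℤ) = ((q : ℤ) ^ 2 - q + 1) - q * ((q : ℤ) - 1) := by ring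
        rw [h5]
        exact dvd_sub hz2 (h2.mul_left _)
      exact hp.one_lt.ne' (Nat.dvd_one.1 (by exact_mod_cast h4))
    · have h' : p ∣ q + 1 := by
        refine ((dvd_mul_left p 2).trans h).trans ?_
        exact Nat.div_dvd_of_dvd (by omega)
      have h2 : (p : ℤ) ∣ (q : ℤ) + 1 := by exact_mod_cast Int.natCast_dvd_natCast.2 h'
      have h4 : (p : ℤ) ∣ ((3 : ℕ) : ℤ) := by
        have h5 : ((3 : ℕ) : ℤ) = ((q : ℤ) ^ 2 - q + 1) - (q - 2) * ((q : ℤ) + 1) := by push_cast; ring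
        rw [h5]
        exact dvd_sub hz2 (h2.mul_left _)
      exact hp3 ((Nat.prime_dvd_prime_iff_eq hp Nat.prime_three).1 (by exact_mod_cast h4))
    · have h' : 2 ∣ q - t + 1 := (dvd_mul_right 2 p).trans h
      omega
    · have h' : 2 ∣ q + t + 1 := (dvd_mul_right 2 p).trans h
      omega

theorem ree_false (hK : Fintype.card K = 3 ^ (2 * m + 1)) {X : Type v} [Group X] [Finite X]
    (hX : Cfsg.IsSporadic X) (hs : Sub X ↥(twistedG2 K (3 ^ m))) : False := by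
  have h3 := hs.prime (by norm_num : Nat.Prime 5) (five_dvd _ (card_mem hX))
  rw [Cfsg.Agent.S1069.result hK, ← ZMod.natCast_eq_zero_iff] at h3
  have h1 : ((3 : ZMod 5)) ^ (2 * m + 1) = 3 ∨ ((3 : ZMod 5)) ^ (2 * m + 1) = 2 := by
    rw [pow_succ, pow_mul]
    have h1 : (3 : ZMod 5) ^ 2 = -1 := by decide
    rw [h1]
    rcases neg_one_pow_eq_or (ZMod 5) m with h | h
    · left
      rw [h, one_mul]
    · right
      rw [h]
      decide
  have h2 : 1 ≤ 3 ^ (2 * m + 1) := Nat.one_le_pow _ _ (by norm_num)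
  push_cast [Nat.cast_sub h2] at h3
  rcases h1 with h1 | h1 <;>
  · rw [h1] at h3
    revert h3
    decide

end Ree

/-! ### `²F₄` -/

section F4

open Cfsg.Agent.H493 Cfsg.Agent.H371.Core.TwF4

variable {K : Type u} [Field K] [Fintype K] {m : ℕ}

theorem coprime_PM {P M : ℕ} {b : ℤ} (hP : (P : ℤ) = PGF4T.fP b) (hM : (M : ℤ) = PGF4T.fM b) : P.Coprime M := by
  rw [← Nat.isCoprime_iff_coprime, hP, hM]
  refine ⟨1 - (2 * b ^ 4 + 2 * b ^ 3 + b ^ 2 + b) * (1 - b), -((2 * b ^ 4 + 2 * b ^ 3 + b ^ 2 + b) * (1 + b)), ?_⟩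
  unfold PGF4T.fP PGF4T.fM
  ring

/-- the two tori of `²F₄` -/
theorem isol_2F4 (hK : Fintype.card K = 2 ^ (2 * m + 1)) {N : ℕ}
    (hN : (N : ℤ) = 1 - (Fintype.card K : ℤ) ^ 2 + (Fintype.card K : ℤ) ^ 4) : Isol ↥(twistedF4 K (2 ^ m)) N := by
  have hb : (1 : ℤ) ≤ 2 ^ m := one_le_pow₀ (by norm_num)
  have hKb : (Fintype.card K : ℤ) = 2 * (2 ^ m) ^ 2 := by
    rw [hK]
    push_cast
    ring
  have hKN : Nat.card K = Fintype.card K := Nat.card_eq_fintype_card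
  have hodd : ¬ 2 ∣ N := odd_12 hN
  generalize hbb : ((2 : ℤ) ^ m) = b at hb hKb
  have hPpos : 0 < PGF4T.fP b := by unfold PGF4T.fP; positivity
  have hMpos : 0 < PGF4T.fM b := by
    unfold PGF4T.fM
    have h1 : 0 ≤ b ^ 3 * (b - 1) := mul_nonneg (by positivity) (by linarith)
    have h2 : 0 ≤ b * (b - 1) := mul_nonneg (by positivity) (by linarith)
    nlinarith
  obtain ⟨P, hP⟩ : ∃ P : ℕ, (P : ℤ) = PGF4T.fP b := ⟨(PGF4T.fP b).toNat, Int.toNat_of_nonneg hPpos.le⟩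
  obtain ⟨M, hM⟩ : ∃ M : ℕ, (M : ℤ) = PGF4T.fM b := ⟨(PGF4T.fM b).toNat, Int.toNat_of_nonneg hMpos.le⟩
  have gP := exists_cert hK PGF4T.chainEp_ok PGF4T.hThEp PGF4T.certEp_fP (N := P) (by rw [hP, hbb])
  have gM := exists_cert hK PGF4T.chainEm_ok PGF4T.hThEm PGF4T.certEm_fM (N := M) (by rw [hM, hbb])
  have hPM : N = P * M := by
    have h1 : (N : ℤ) = ((P * M : ℕ) : ℤ) := by
      rw [hN, Nat.cast_mul, hP, hM, hKb]
      unfold PGF4T.fP PGF4T.fM
      ring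
    exact_mod_cast h1
  have hcop := coprime_PM hP hM
  have hord : ∀ n : ℕ, n ≠ 0 → (∃ g : ↥(twistedF4 K (2 ^ m)), orderOf g = n) → ∀ d, d ∣ n →
      ∃ g : ↥(twistedF4 K (2 ^ m)), orderOf g = d := by
    rintro n hn ⟨g, hg⟩ d ⟨c, hc⟩
    have hc0 : c ≠ 0 := by rintro rfl; rw [mul_zero] at hc; exact hn hc
    refine ⟨g ^ c, ?_⟩
    rw [orderOf_pow' _ hc0, hg, hc, Nat.gcd_eq_right (dvd_mul_left c d),
      Nat.mul_div_cancel _ (Nat.pos_of_ne_zero hc0)]
  have hP0 : P ≠ 0 := by rintro rfl; rw [← hP] at hPpos; exact lt_irrefl _ hPpos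
  have hM0 : M ≠ 0 := by rintro rfl; rw [← hM] at hMpos; exact lt_irrefl _ hMpos
  intro r k hr hk hd
  have hrN : r ∣ N := (dvd_pow_self r hk.ne').trans hd
  have hex : ∃ g : ↥(twistedF4 K (2 ^ m)), orderOf g = r ^ k := by
    rw [hPM] at hd
    rcases (Nat.Coprime.isPrimePow_dvd_mul hcop (hr.isPrimePow.pow hk.ne')).1 hd with h | h
    · exact hord P hP0 gP _ h
    · exact hord M hM0 gM _ h
  refine ⟨?_, ?_, ?_, hex⟩
  · rintro rfl
    exact hodd hrN
  · obtain ⟨g, hg⟩ := hex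
    exact (dvd_pow_self r hk.ne').trans (hg ▸ orderOf_dvd_natCard g)
  · have hod : Cfsg.Agent.H378.ExcAdj.od (Nat.card K) r = 12 := by
      refine Cfsg.Agent.H378.TwRows.od_of_c12 hr ?_
      rw [Cfsg.Agent.H493.PGCyc.pv_c12, hKN]
      have h2 : (r : ℤ) ∣ (N : ℤ) := Int.natCast_dvd_natCast.2 hrN
      rw [hN] at h2
      convert h2 using 1
      ring
    refine not_two_of_cent (M := N) hodd fun x hx => ?_
    have h2 := (Cfsg.Agent.H378.TwRowsF.cent_2F4 hK hr hx hod).2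
    rw [Cfsg.Agent.H378.TwRows.eval_cyc12, hKN] at h2
    have h3 : ((Fintype.card K : ℤ) ^ 4 - (Fintype.card K : ℤ) ^ 2 + 1).natAbs = N := by
      have h4 : (Fintype.card K : ℤ) ^ 4 - (Fintype.card K : ℤ) ^ 2 + 1 = N := by rw [hN]; ring
      rw [h4, Int.natAbs_natCast]
    rwa [h3] at h2

theorem two_2F4 (hK : Fintype.card K = 2 ^ (2 * m + 1)) : Two ↥(twistedF4 K (2 ^ m)) := by
  obtain ⟨N, hN⟩ := exists_12 (Fintype.card K) Fintype.one_lt_card.le
  exact (isol_2F4 hK hN).two (ne_one_12 Fintype.one_lt_card hN)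

theorem f4t_false (hm : 1 ≤ m) (hK : Fintype.card K = 2 ^ (2 * m + 1)) {X : Type v} [Group X] [Finite X]
    (hX : Cfsg.IsSporadic X) (hP : Par X ↥(twistedF4 K (2 ^ m))) : False := by
  obtain ⟨N, hN⟩ := exists_12 (Fintype.card K) Fintype.one_lt_card.le
  have h2 := q_of_12 Fintype.one_lt_card hN (card_mem hX) ((isol_2F4 hK hN).dvd hP)
  rw [hK] at h2
  have h3 : 2 ^ (2 * 1 + 1) ≤ 2 ^ (2 * m + 1) := Nat.pow_le_pow_right two_pos (by omega)
  omega

end F4

/-! ### the Tits group -/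

theorem two_tits : Two TitsGroup := by
  have hcard := Cfsg.Agent.S1074.result.2.2.2
  have hK : Fintype.card (ZMod 2) = 2 ^ (2 * 0 + 1) := rfl
  have h1 : Isol ↥(twistedF4 (ZMod 2) (2 ^ 0)) 13 := isol_2F4 hK (by rw [hK]; norm_num)
  obtain ⟨-, -, h2, -⟩ := h1 13 1 (by norm_num) one_pos (by norm_num)
  refine ⟨13, by norm_num, by norm_num, ?_, ?_⟩
  · rw [hcard]
    norm_num
  · rintro ⟨y, hy⟩
    refine h2 ⟨(y : ↥(twistedF4 (ZMod 2) 1)), ?_⟩
    rw [← hy]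
    exact Subgroup.orderOf_coe y

theorem tits_false {X : Type v} [Group X] [Finite X] (hX : Cfsg.IsSporadic X) (hs : Sub X TitsGroup) : False := by
  have hcard := Cfsg.Agent.S1074.result.2.2.2
  rcases seven_etc _ (card_mem hX) with h | h | h
  · have h3 := hs.prime (by norm_num : Nat.Prime 7) h
    rw [hcard] at h3
    revert h3
    decide
  · have h3 := hs.prime (by norm_num : Nat.Prime 11) h
    rw [hcard] at h3
    revert h3
    decide
  · have h3 := hs.prime (by norm_num : Nat.Prime 17) h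
    rw [hcard] at h3
    revert h3
    decide

end Cfsg.Agent.H998.SpExc
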